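import Mathlib

/-!
A substitution showing that a non-trivial word is not a law, in groups having a split torus element
and one element with non-zero "corner" entries.

If `d` acts as a diagonal matrix with a strictly highest weight at `hi` and a strictly lowest one at
`lo`, and `m` has non-zero entries at the four positions in `{hi, lo}` (so does `m⁻¹`), then the
elements `d ^ (i+1) * (m * d * m⁻¹) * (d ^ (i+1))⁻¹` satisfy no relation given by a short word,
for all but boundedly many parameters.
-/

set_option autoImplicit false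

namespace CfsgLib.Laws

open Polynomial Matrix

/-- The substituted generators. -/
def genFn {H : Type*} [Group H] (m d : H) (i : ℕ) : H :=
  d ^ (i + 1) * (m * d * m⁻¹) * (d ^ (i + 1))⁻¹

lemma genFn_mem {H : Type*} [Group H] (N : Subgroup H) [N.Normal] (m : H) {d : H} (hd : d ∈ N)
    (i : ℕ) : genFn m d i ∈ N :=
  mul_mem (mul_mem (pow_mem hd _) (Subgroup.Normal.conj_mem inferInstance d hd m))
    (inv_mem (pow_mem hd _))

/-- Weighted length of a word. -/
def wlen (L : List (ℕ × Bool)) : ℕ := (L.map fun x => 2 * (x.1 + 1) + 1).sum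

@[simp] lemma wlen_nil : wlen [] = 0 := rfl

@[simp] lemma wlen_cons (x : ℕ × Bool) (L : List (ℕ × Bool)) :
    wlen (x :: L) = 2 * (x.1 + 1) + 1 + wlen L := rfl

section Core

variable {ι : Type*} [Fintype ι] [DecidableEq ι] {F : Type*} [Field F]

/-- `y` has degree at most `n`, with leading coefficient supported exactly at `a`. -/
def Top (n : ℕ) (a : ι) (y : ι → F[X]) : Prop :=
  (∀ r, (y r).natDegree ≤ n) ∧ (y a).coeff n ≠ 0 ∧ ∀ r, r ≠ a → (y r).coeff n = 0

/-- `y` has degree at most `n`, with non-zero coefficient of degree `n` at `hi` and at `lo`. -/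
def Full (n : ℕ) (hi lo : ι) (y : ι → F[X]) : Prop :=
  (∀ r, (y r).natDegree ≤ n) ∧ (y hi).coeff n ≠ 0 ∧ (y lo).coeff n ≠ 0

/-- Multiply the coordinate `r` by `X ^ s r`. -/
noncomputable def shift (s : ι → ℕ) (y : ι → F[X]) : ι → F[X] := fun r => X ^ s r * y r

/-- Apply a constant matrix. -/
noncomputable def act (A : Matrix ι ι F) (y : ι → F[X]) : ι → F[X] := A.map C *ᵥ y

/-- Evaluate every coordinate. -/
noncomputable def ev (t : F) (y : ι → F[X]) : ι → F := fun r => (y r).eval t

omit [Fintype ι] [DecidableEq ι] in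
lemma top_shift_of_top {n e : ℕ} {a : ι} {s : ι → ℕ} {y : ι → F[X]} (hy : Top n a y)
    (hs : ∀ r, s r ≤ e) (ha : s a = e) : Top (n + e) a (shift s y) := by
  refine ⟨fun r => ?_, ?_, fun r hr => ?_⟩
  · refine natDegree_mul_le.trans ?_
    rw [natDegree_X_pow]
    have := hy.1 r; have := hs r; omega
  · simp only [shift]; rw [ha, coeff_X_pow_mul]; exact hy.2.1
  · simp only [shift]
    rw [coeff_X_pow_mul']
    split
    · rcases (hs r).lt_or_eq with h | h
      · exact coeff_eq_zero_of_natDegree_lt (lt_of_le_of_lt (hy.1 r) (by omega))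
      · rw [h, Nat.add_sub_cancel]; exact hy.2.2 r hr
    · rfl

omit [Fintype ι] [DecidableEq ι] in
lemma top_shift_of_full {n e : ℕ} {hi lo a : ι} {s : ι → ℕ} {y : ι → F[X]} (hy : Full n hi lo y)
    (ha' : a = hi ∨ a = lo) (hs : ∀ r, r ≠ a → s r < e) (ha : s a = e) :
    Top (n + e) a (shift s y) := by
  have hle : ∀ r, s r ≤ e := fun r => by
    by_cases h : r = a
    · rw [h, ha]
    · exact (hs r h).le
  refine ⟨fun r => ?_, ?_, fun r hr => ?_⟩
  · refine natDegree_mul_le.trans ?_
    rw [natDegree_X_pow]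
    have := hy.1 r; have := hle r; omega
  · simp only [shift]; rw [ha, coeff_X_pow_mul]
    rcases ha' with rfl | rfl
    · exact hy.2.1
    · exact hy.2.2
  · simp only [shift]
    rw [coeff_X_pow_mul']
    split
    · exact coeff_eq_zero_of_natDegree_lt (lt_of_le_of_lt (hy.1 r) (by have := hs r hr; omega))
    · rfl

omit [DecidableEq ι] in
lemma coeff_act (A : Matrix ι ι F) (y : ι → F[X]) (r : ι) (n : ℕ) :
    (act A y r).coeff n = ∑ j, A r j * (y j).coeff n := by
  simp [act, Matrix.mulVec, dotProduct, coeff_C_mul]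

omit [DecidableEq ι] in
lemma full_act {n : ℕ} {hi lo a : ι} {A : Matrix ι ι F} {y : ι → F[X]} (hy : Top n a y)
    (h₁ : A hi a ≠ 0) (h₂ : A lo a ≠ 0) : Full n hi lo (act A y) := by
  have key : ∀ r, (act A y r).coeff n = A r a * (y a).coeff n := fun r => by
    rw [coeff_act]
    refine Finset.sum_eq_single a (fun j _ hj => by simp [hy.2.2 j hj]) (by simp)
  refine ⟨fun r => ?_, ?_, ?_⟩
  · simp only [act, Matrix.mulVec, dotProduct, Matrix.map_apply]
    exact natDegree_sum_le_of_forall_le _ _ fun j _ => (natDegree_C_mul_le _ _).trans (hy.1 j)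
  · rw [key]; exact mul_ne_zero h₁ hy.2.1
  · rw [key]; exact mul_ne_zero h₂ hy.2.1

omit [DecidableEq ι] in
lemma ev_act (t : F) (A : Matrix ι ι F) (y : ι → F[X]) : ev t (act A y) = A *ᵥ ev t y := by
  funext r
  simp [ev, act, Matrix.mulVec, dotProduct, eval_finsetSum]

omit [Fintype ι] [DecidableEq ι] in
lemma ev_shift (t : F) (s : ι → ℕ) (y : ι → F[X]) :
    ev t (shift s y) = fun r => t ^ s r * ev t y r := by
  funext r; simp [ev, shift]

end Core

section Main

variable {ι : Type*} [Fintype ι] [DecidableEq ι] {F : Type*} [Field F] {H : Type*} [Group H]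

/-- The hypotheses: a torus parametrised by `T` with weights `p - h`, and an element `m`. -/
structure Data (ρ : H →* Matrix ι ι F) (m : H) (T : Finset F) (d : F → H) (h : ℕ)
    (p : ι → ℕ) (hi lo : ι) : Prop where
  hpos : 0 < h
  p_hi : p hi = 2 * h
  p_lo : p lo = 0
  p_lt : ∀ r, r ≠ hi → p r < 2 * h
  p_pos : ∀ r, r ≠ lo → 0 < p r
  m_ne : ∀ r, r = hi ∨ r = lo → ∀ c, c = hi ∨ c = lo → ρ m r c ≠ 0 ∧ ρ m⁻¹ r c ≠ 0
  t_ne : ∀ t ∈ T, t ≠ 0
  d_eq : ∀ t ∈ T, t ^ h • ρ (d t) = Matrix.diagonal fun r => t ^ p r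

variable {ρ : H →* Matrix ι ι F} {m : H} {T : Finset F} {d : F → H} {h : ℕ} {p : ι → ℕ}
  {hi lo : ι}

namespace Data

variable (D : Data ρ m T d h p hi lo)
include D

lemma p_le (r : ι) : p r ≤ 2 * h := by
  by_cases hr : r = hi
  · rw [hr, D.p_hi]
  · exact (D.p_lt r hr).le

lemma d_apply {t : F} (ht : t ∈ T) (v : ι → F) :
    (fun r => t ^ p r * v r) = t ^ h • (ρ (d t) *ᵥ v) := by
  rw [← Matrix.smul_mulVec, D.d_eq t ht]
  funext r; rw [Matrix.mulVec_diagonal]

lemma dinv_apply {t : F} (ht : t ∈ T) (v : ι → F) :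
    (fun r => t ^ (2 * h - p r) * v r) = t ^ h • (ρ (d t)⁻¹ *ᵥ v) := by
  set v' := ρ (d t)⁻¹ *ᵥ v with hv'
  have hv : v = ρ (d t) *ᵥ v' := by
    rw [hv', Matrix.mulVec_mulVec, ← map_mul, mul_inv_cancel, map_one, Matrix.one_mulVec]
  have hd := D.d_apply ht v'
  rw [← hv] at hd
  funext r
  have h1 : t ^ p r * v' r = t ^ h * v r := congrFun hd r
  have h2 : t ^ (2 * h - p r) * t ^ p r = t ^ h * t ^ h := by
    rw [← pow_add, ← pow_add, Nat.sub_add_cancel (D.p_le r), two_mul]
  have ht' : t ^ h ≠ 0 := pow_ne_zero _ (D.t_ne t ht)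
  refine mul_left_cancel₀ ht' ?_
  simp only [Pi.smul_apply, smul_eq_mul]
  calc t ^ h * (t ^ (2 * h - p r) * v r) = t ^ (2 * h - p r) * (t ^ h * v r) := by ring
    _ = t ^ (2 * h - p r) * t ^ p r * v' r := by rw [← h1]; ring
    _ = t ^ h * (t ^ h * v' r) := by rw [h2]; ring

lemma dpow_apply {t : F} (ht : t ∈ T) (k : ℕ) (v : ι → F) :
    (fun r => t ^ (k * p r) * v r) = t ^ (k * h) • (ρ (d t ^ k) *ᵥ v) := by
  induction k generalizing v with
  | zero => funext r; simp
  | succ k ih =>
    rw [pow_succ, map_mul, ← Matrix.mulVec_mulVec]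
    funext r
    have h1 := congrFun (D.d_apply ht v) r
    have h2 := congrFun (ih (ρ (d t) *ᵥ v)) r
    simp only [Pi.smul_apply, smul_eq_mul] at h1 h2 ⊢
    rw [add_one_mul, add_one_mul, pow_add, pow_add, mul_assoc, h1]
    linear_combination t ^ h * h2

lemma dinvpow_apply {t : F} (ht : t ∈ T) (k : ℕ) (v : ι → F) :
    (fun r => t ^ (k * (2 * h - p r)) * v r) = t ^ (k * h) • (ρ (d t ^ k)⁻¹ *ᵥ v) := by
  induction k generalizing v with
  | zero => funext r; simp
  | succ k ih =>
    rw [pow_succ', _root_.mul_inv_rev, map_mul, ← Matrix.mulVec_mulVec]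
    funext r
    have h1 := congrFun (D.dinv_apply ht v) r
    have h2 := congrFun (ih (ρ (d t)⁻¹ *ᵥ v)) r
    simp only [Pi.smul_apply, smul_eq_mul] at h1 h2 ⊢
    rw [add_one_mul, add_one_mul, pow_add, pow_add, mul_assoc, h1]
    linear_combination t ^ h * h2

/-- Invariant along a reduced word. -/
lemma word_aux : ∀ (L : List (ℕ × Bool)), FreeGroup.IsReduced L → ∀ (i : ℕ) (b : Bool) (L' : List (ℕ × Bool)),
    L = (i, b) :: L' → ∃ (n : ℕ) (y : ι → F[X]),
      Top n (bif b then hi else lo) y ∧ h * (wlen L + 1) ≤ n + h * (i + 1) ∧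
      n + 2 * h * (i + 1) ≤ 4 * h * wlen L ∧
      ∀ t ∈ T, ev t (shift (fun r => (i + 1) * p r) (act (ρ m) y)) =
        t ^ (h * wlen L) • (ρ ((L.map fun x => cond x.2 (genFn m (d t) x.1)
          (genFn m (d t) x.1)⁻¹).prod) *ᵥ fun _ => 1) := by
  intro L
  induction L with
  | nil => intro _ i b L' hL; simp at hL
  | cons x L ih =>
    intro hred i b L' hL
    simp only [List.cons.injEq] at hL
    obtain ⟨rfl, rfl⟩ := hL
    -- the shift for the first letter
    set ε : ι → ℕ := fun r => bif b then p r else 2 * h - p r with hε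
    have hεle : ∀ r, ε r ≤ 2 * h := fun r => by cases b <;> simp [hε, D.p_le r]
    have hεa : ε (bif b then hi else lo) = 2 * h := by cases b <;> simp [hε, D.p_hi, D.p_lo]
    have hεlt : ∀ r, r ≠ (bif b then hi else lo) → ε r < 2 * h := fun r hr => by
      have := D.hpos
      cases b
      · have := D.p_pos r (by simpa using hr); simp [hε]; omega
      · simpa [hε] using D.p_lt r (by simpa using hr)
    have hab : (bif b then hi else lo) = hi ∨ (bif b then hi else lo) = lo := by cases b <;> simp
    have hεapply : ∀ t ∈ T, ∀ v : ι → F,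
        (fun r => t ^ ε r * v r) = t ^ h • (ρ (cond b (d t) (d t)⁻¹) *ᵥ v) := by
      intro t ht v; cases b
      · exact D.dinv_apply ht v
      · exact D.d_apply ht v
    have hletter : ∀ t, cond b (genFn m (d t) i) (genFn m (d t) i)⁻¹
        = d t ^ (i + 1) * (m * cond b (d t) (d t)⁻¹ * m⁻¹) * (d t ^ (i + 1))⁻¹ := by
      intro t; cases b <;> simp [genFn, mul_assoc]
    have hfin : ∀ t ∈ T, ∀ w : ι → F,
        (fun r => t ^ ((i + 1) * p r) * ((ρ m *ᵥ (fun r => t ^ ε r * w r)) r)) =
          t ^ (h * (i + 2)) • (ρ (d t ^ (i + 1) * (m * cond b (d t) (d t)⁻¹)) *ᵥ w) := by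
      intro t ht w
      rw [D.dpow_apply ht, hεapply t ht, Matrix.mulVec_smul, Matrix.mulVec_smul, smul_smul,
        ← pow_add, map_mul, map_mul, ← Matrix.mulVec_mulVec, ← Matrix.mulVec_mulVec]
      congr 2; ring
    cases L with
    | nil =>
      -- a single letter
      have hy0 : Top (0 + (i + 1) * (2 * h)) lo
          (shift (fun r => (i + 1) * (2 * h - p r)) (fun _ => (1 : F[X]))) := by
        refine top_shift_of_full (hi := hi) (lo := lo) ⟨fun r => by simp, by simp, by simp⟩
          (Or.inr rfl) (fun r hr => ?_) (by simp [D.p_lo])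
        have := D.p_pos r hr; have := D.hpos
        exact Nat.mul_lt_mul_of_pos_left (by omega) (by omega)
      have hy1 := full_act (hi := hi) (lo := lo) (A := ρ m⁻¹) hy0
        (D.m_ne hi (Or.inl rfl) lo (Or.inr rfl)).2 (D.m_ne lo (Or.inr rfl) lo (Or.inr rfl)).2
      have hy2 := top_shift_of_full (s := ε) hy1 hab hεlt hεa
      refine ⟨_, _, hy2, ?_, ?_, fun t ht => ?_⟩
      · simp only [wlen_cons, wlen_nil]; nlinarith
      · simp only [wlen_cons, wlen_nil]; nlinarith
      · simp only [List.map_cons, List.map_nil, List.prod_cons, List.prod_nil, mul_one, wlen_cons,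
          wlen_nil, add_zero]
        rw [hletter, ev_shift, ev_act, ev_shift, ev_act, ev_shift, hfin t ht]
        rw [show ev t (fun _ : ι => (1 : F[X])) = fun _ => 1 from by funext r; simp [ev]]
        rw [D.dinvpow_apply ht, Matrix.mulVec_smul, Matrix.mulVec_smul, smul_smul, ← pow_add]
        simp only [map_mul, ← Matrix.mulVec_mulVec]
        congr 2; ring
    | cons z L =>
      obtain ⟨j, c⟩ := z
      rw [FreeGroup.isReduced_cons_cons] at hred
      obtain ⟨n, y, hy, hlow, hup, hev⟩ := ih hred.2 j c L rfl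
      by_cases hij : i = j
      · subst hij
        have hbc : b = c := hred.1 rfl
        subst hbc
        have hy1 := top_shift_of_top (s := fun _ => (i + 1) * (2 * h)) hy (fun _ => le_rfl) rfl
        have hy2 := top_shift_of_top (s := ε) hy1 hεle hεa
        refine ⟨_, _, hy2, ?_, ?_, fun t ht => ?_⟩
        · simp only [wlen_cons] at hlow ⊢; nlinarith
        · simp only [wlen_cons] at hup ⊢; nlinarith
        · rw [List.map_cons, List.prod_cons, hletter, wlen_cons, ev_shift, ev_act, ev_shift,
            hfin t ht, ev_shift]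
          have hev' := hev t ht
          rw [ev_shift, ev_act] at hev'
          -- cancel `d ^ (i+1)`
          have hz : (fun r => t ^ ((i + 1) * (2 * h)) * ev t y r) =
              t ^ ((i + 1) * h) • (ρ (m⁻¹ * (d t ^ (i + 1))⁻¹) *ᵥ
                (fun r => t ^ ((i + 1) * p r) * (ρ m *ᵥ ev t y) r)) := by
            rw [D.dpow_apply ht, Matrix.mulVec_smul, smul_smul, ← pow_add,
              Matrix.mulVec_mulVec, ← map_mul, Matrix.mulVec_mulVec, ← map_mul]
            rw [show m⁻¹ * (d t ^ (i + 1))⁻¹ * d t ^ (i + 1) * m = 1 by group, map_one,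
              Matrix.one_mulVec]
            funext r
            simp only [Pi.smul_apply, smul_eq_mul]
            congr 1; congr 1; ring
          rw [hz, hev', Matrix.mulVec_smul, Matrix.mulVec_smul, Matrix.mulVec_smul, smul_smul,
            smul_smul, ← pow_add, ← pow_add]
          simp only [map_mul, ← Matrix.mulVec_mulVec]
          congr 2; simp only [wlen_cons]; ring
      · set a' : ι := if j < i then lo else hi with ha'
        set s : ι → ℕ := fun r => (i + 1) * (2 * h - p r) + (j + 1) * p r with hs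
        have hac : (bif c then hi else lo) = hi ∨ (bif c then hi else lo) = lo := by
          cases c <;> simp
        have hy1 := full_act (hi := hi) (lo := lo) (A := ρ m) hy
          (D.m_ne hi (Or.inl rfl) _ hac).1 (D.m_ne lo (Or.inr rfl) _ hac).1
        have hsmax : ∀ r, r ≠ a' → s r < 2 * h * max (i + 1) (j + 1) := by
          intro r hr
          obtain ⟨k, hk⟩ : ∃ k, p r + k = 2 * h := ⟨_, Nat.add_sub_cancel' (D.p_le r)⟩
          have hk' : 2 * h - p r = k := by omega
          simp only [hs, hk']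
          by_cases hji : j < i
          · rw [max_eq_left (by omega)]
            have := D.p_pos r (by simpa [ha', hji] using hr)
            nlinarith
          · rw [max_eq_right (by omega)]
            have := D.p_lt r (by simpa [ha', hji] using hr)
            have : i < j := by omega
            nlinarith
        have hsa : s a' = 2 * h * max (i + 1) (j + 1) := by
          by_cases hji : j < i
          · simp only [hs, ha', hji, if_true, D.p_lo]
            rw [max_eq_left (by omega)]; ring_nf; simp; ring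
          · simp only [hs, ha', hji, if_false, D.p_hi]
            rw [max_eq_right (by omega)]; simp; ring
        have ha'' : a' = hi ∨ a' = lo := by rw [ha']; split <;> simp
        have hy2 := top_shift_of_full (s := s) hy1 ha'' hsmax hsa
        have hy3 := full_act (hi := hi) (lo := lo) (A := ρ m⁻¹) hy2
          (D.m_ne hi (Or.inl rfl) _ ha'').2 (D.m_ne lo (Or.inr rfl) _ ha'').2
        have hy4 := top_shift_of_full (s := ε) hy3 hab hεlt hεa
        refine ⟨_, _, hy4, ?_, ?_, fun t ht => ?_⟩
        · have : h * ((i + 1) + (j + 1)) ≤ 2 * h * max (i + 1) (j + 1) := by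
            have h1 := le_max_left (i + 1) (j + 1)
            have h2 := le_max_right (i + 1) (j + 1)
            nlinarith
          simp only [wlen_cons] at hlow ⊢; nlinarith
        · have : 2 * h * max (i + 1) (j + 1) ≤ 2 * h * ((i + 1) + (j + 1)) :=
            Nat.mul_le_mul le_rfl (max_le (by omega) (by omega))
          simp only [wlen_cons] at hup ⊢; nlinarith
        · rw [List.map_cons, List.prod_cons, hletter, wlen_cons, ev_shift, ev_act, ev_shift,
            hfin t ht, ev_act, ev_shift, ev_act]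
          have hev' := hev t ht
          rw [ev_shift, ev_act] at hev'
          have hz : (fun r => t ^ s r * (ρ m *ᵥ ev t y) r) =
              t ^ ((i + 1) * h) • (ρ (d t ^ (i + 1))⁻¹ *ᵥ
                (fun r => t ^ ((j + 1) * p r) * (ρ m *ᵥ ev t y) r)) := by
            rw [← D.dinvpow_apply ht]
            funext r; simp only [hs, pow_add]; ring
          rw [hz, hev']
          simp only [Matrix.mulVec_smul, smul_smul, ← pow_add]
          simp only [map_mul, ← Matrix.mulVec_mulVec]
          congr 2; simp only [wlen_cons]; ring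

/-- Main lemma: some parameter gives a non-trivial value. -/
theorem exists_value_ne_one (w : FreeGroup ℕ) (hw : w ≠ 1)
    (hT : 4 * h * wlen w.toWord < T.card) :
    ∃ t ∈ T, FreeGroup.lift (genFn m (d t)) w ≠ 1 := by
  have hne : w.toWord ≠ [] := fun h' => hw (FreeGroup.toWord_eq_nil_iff.1 h')
  obtain ⟨⟨i, b⟩, L', hL⟩ := List.exists_cons_of_ne_nil hne
  obtain ⟨n, y, hy, hlow, hup, hev⟩ := D.word_aux w.toWord FreeGroup.isReduced_toWord i b L' hL
  have hab : (bif b then hi else lo) = hi ∨ (bif b then hi else lo) = lo := by cases b <;> simp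
  have hf := full_act (hi := hi) (lo := lo) (A := ρ m) hy
    (D.m_ne hi (Or.inl rfl) _ hab).1 (D.m_ne lo (Or.inr rfl) _ hab).1
  have htop := top_shift_of_full (s := fun r => (i + 1) * p r) (e := (i + 1) * (2 * h)) hf
    (Or.inl rfl) (fun r hr => Nat.mul_lt_mul_of_pos_left (D.p_lt r hr) (by omega))
    (by simp [D.p_hi])
  set z := shift (fun r => (i + 1) * p r) (act (ρ m) y)
  set N := n + (i + 1) * (2 * h)
  set P : F[X] := z hi - X ^ (h * wlen w.toWord)
  have hN : h * wlen w.toWord < N := by
    have := D.hpos; simp only [N]; nlinarith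
  have hdeg : P.natDegree ≤ N := by
    refine (natDegree_sub_le _ _).trans (max_le (htop.1 hi) ?_)
    rw [natDegree_X_pow]; exact hN.le
  have hPc : P.coeff N ≠ 0 := by
    simp only [P, coeff_sub, coeff_X_pow, if_neg hN.ne', sub_zero]; exact htop.2.1
  have hP : P ≠ 0 := fun h0 => hPc (by simp [h0])
  obtain ⟨t, ht, htr⟩ : ∃ t ∈ T, P.eval t ≠ 0 := by
    by_contra hall
    push Not at hall
    refine hP (eq_zero_of_natDegree_lt_card_of_eval_eq_zero' P T hall (lt_of_le_of_lt hdeg ?_))
    have : N ≤ 4 * h * wlen w.toWord := by simp only [N]; nlinarith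
    omega
  refine ⟨t, ht, fun h1 => htr ?_⟩
  have h2 : FreeGroup.lift (genFn m (d t)) w = ((w.toWord).map fun x =>
      cond x.2 (genFn m (d t) x.1) (genFn m (d t) x.1)⁻¹).prod := by
    conv_lhs => rw [← FreeGroup.mk_toWord (x := w), FreeGroup.lift_mk]
  have h3 := hev t ht
  rw [← h2, h1, map_one, Matrix.one_mulVec] at h3
  have h4 := congrFun h3 hi
  simp only [ev, Pi.smul_apply, smul_eq_mul, mul_one] at h4
  simp [P, h4]

end Data

end Main

/-! ### Laws -/

/-- `w` is not a law of `G`. -/
def Fails (w : FreeGroup ℕ) (G : Type*) [Group G] : Prop := ∃ f : ℕ → G, FreeGroup.lift f w ≠ 1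

lemma lift_comp {G K : Type*} [Group G] [Group K] (φ : G →* K) (f : ℕ → G) (w : FreeGroup ℕ) :
    FreeGroup.lift (φ ∘ f) w = φ (FreeGroup.lift f w) := by
  have : FreeGroup.lift (φ ∘ f) = φ.comp (FreeGroup.lift f) :=
    FreeGroup.ext_hom _ _ (fun a => by simp)
  rw [this]; rfl

lemma Fails.of_injective {w : FreeGroup ℕ} {G K : Type*} [Group G] [Group K] (φ : G →* K)
    (hφ : Function.Injective φ) (h : Fails w G) : Fails w K := by
  obtain ⟨f, hf⟩ := h
  refine ⟨φ ∘ f, fun h1 => hf (hφ ?_)⟩
  rw [map_one, ← lift_comp]; exact h1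

lemma fails_subgroup {w : FreeGroup ℕ} {G : Type*} [Group G] (S : Subgroup G) (f : ℕ → G)
    (hf : ∀ i, f i ∈ S) (hne : FreeGroup.lift f w ≠ 1) : Fails w S := by
  refine ⟨fun i => ⟨f i, hf i⟩, fun h1 => hne ?_⟩
  have := lift_comp S.subtype (fun i => (⟨f i, hf i⟩ : S)) w
  rw [h1, map_one] at this
  exact this

/-- An auxiliary word `[w', x₀]`, where `w'` is `w` with shifted letters. -/
def padWord (w : FreeGroup ℕ) : FreeGroup ℕ :=
  FreeGroup.map Nat.succ w * FreeGroup.of 0 * (FreeGroup.of 0 * FreeGroup.map Nat.succ w)⁻¹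

lemma padWord_ne_one {w : FreeGroup ℕ} (hw : w ≠ 1) : padWord w ≠ 1 := by
  intro h
  rw [padWord, mul_inv_eq_one] at h
  set W := FreeGroup.map Nat.succ w with hW
  have hWw : W.toWord = w.toWord.map fun x => (x.1 + 1, x.2) := by
    have hr : FreeGroup.IsReduced (w.toWord.map fun x => (x.1 + 1, x.2)) := by
      have := FreeGroup.isReduced_toWord (x := w)
      rw [FreeGroup.IsReduced, List.isChain_map]
      exact List.IsChain.imp (fun a b hab hh => hab (by simpa using hh)) this
    rw [hW]
    conv_lhs => rw [← FreeGroup.mk_toWord (x := w), FreeGroup.map.mk]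
    rw [FreeGroup.toWord_mk, hr.reduce_eq]
  have hne : w.toWord ≠ [] := fun h' => hw (FreeGroup.toWord_eq_nil_iff.1 h')
  have hredW : FreeGroup.IsReduced W.toWord := FreeGroup.isReduced_toWord
  have hzero : ∀ x ∈ W.toWord, x.1 ≠ 0 := by
    intro x hx; rw [hWw, List.mem_map] at hx; obtain ⟨y, _, rfl⟩ := hx; simp
  have hL : FreeGroup.IsReduced ((0, true) :: W.toWord) := by
    rw [FreeGroup.IsReduced, List.isChain_cons]
    refine ⟨fun x hx h' => absurd h'.symm (hzero x (List.mem_of_mem_head? hx)), hredW⟩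
  have hR : FreeGroup.IsReduced (W.toWord ++ [(0, true)]) := by
    rw [FreeGroup.IsReduced, List.isChain_append]
    refine ⟨hredW, List.isChain_singleton _, fun x hx y hy h' => ?_⟩
    simp only [List.head?_cons, Option.mem_some_iff] at hy
    subst hy
    exact absurd h' (hzero x (List.mem_of_mem_getLast? hx))
  have := congrArg FreeGroup.toWord h
  rw [FreeGroup.toWord_mul, FreeGroup.toWord_mul, FreeGroup.toWord_of, hR.reduce_eq, List.singleton_append, hL.reduce_eq] at this
  have hne' : W.toWord ≠ [] := by rw [hWw]; simp [hne]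
  obtain ⟨x, L, hx⟩ := List.exists_cons_of_ne_nil hne'
  rw [hx, List.cons_append, List.cons.injEq] at this
  exact hzero x (by simp [hx]) (by rw [this.1])

/-- If `padWord w` fails in a subgroup, `w` takes a non-central value, so fails modulo centre. -/
lemma Fails.quot_center {w : FreeGroup ℕ} {G K : Type*} [Group G] [Group K] (φ : G →* K)
    (hφ : Function.Injective φ) (h : Fails (padWord w) G) :
    Fails w (K ⧸ Subgroup.center K) := by
  obtain ⟨f, hf⟩ := h.of_injective φ hφ
  refine ⟨fun i => QuotientGroup.mk' _ (f (i + 1)), fun h1 => hf ?_⟩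
  have h2 : FreeGroup.lift f (FreeGroup.map Nat.succ w) ∈ Subgroup.center K := by
    have : FreeGroup.lift f (FreeGroup.map Nat.succ w)
        = FreeGroup.lift (fun i => f (i + 1)) w := by
      have hh : (FreeGroup.lift f).comp (FreeGroup.map Nat.succ)
          = FreeGroup.lift (fun i => f (i + 1)) := FreeGroup.ext_hom _ _ (fun a => by simp)
      rw [← hh]; rfl
    rw [this, ← QuotientGroup.eq_one_iff, ← QuotientGroup.mk'_apply, ← lift_comp]
    exact h1
  simp only [padWord, map_mul, map_inv, FreeGroup.lift_apply_of]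
  rw [Subgroup.mem_center_iff.1 h2 (f 0), mul_inv_cancel]

lemma Fails.of_padWord {w : FreeGroup ℕ} {G : Type*} [Group G] (h : Fails (padWord w) G) :
    Fails w G := by
  obtain ⟨f, hf⟩ := h
  by_contra hall
  simp only [Fails, not_exists, not_not] at hall
  refine hf ?_
  have : FreeGroup.lift f (FreeGroup.map Nat.succ w) = 1 := by
    have hh : (FreeGroup.lift f).comp (FreeGroup.map Nat.succ)
        = FreeGroup.lift (fun i => f (i + 1)) := FreeGroup.ext_hom _ _ (fun a => by simp)
    rw [← MonoidHom.comp_apply, hh]; exact hall _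
  simp [padWord, this]

end CfsgLib.Laws
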