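import Cfsg.Agent.Lib.Laws.Core
import Cfsg.Prelude.Def_Classical

/-!
Non-trivial words fail in large alternating and classical groups.
-/

set_option autoImplicit false

namespace CfsgLib.Laws

open Matrix
open scoped commutatorElement

universe u

/-! ### Generalities -/

lemma Fails.commutator_map {w : FreeGroup ℕ} {G K : Type*} [Group G] [Group K] (φ : G →* K)
    (hφ : Function.Injective φ) (h : Fails w (commutator G)) : Fails w (commutator K) := by
  have hmem : ∀ g ∈ commutator G, φ g ∈ commutator K := by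
    intro g hg
    have : g ∈ (commutator K).comap φ := by
      refine (Subgroup.map_le_iff_le_comap.1 ?_) hg
      rw [commutator_def, Subgroup.map_commutator, commutator_def]
      exact Subgroup.commutator_mono le_top le_top
    exact this
  refine h.of_injective
    ((φ.comp (commutator G).subtype).codRestrict (commutator K) fun g => hmem g g.2) ?_
  intro a b hab
  exact Subtype.ext (hφ (congrArg Subtype.val hab))

lemma Fails.of_commutator {w : FreeGroup ℕ} {G : Type*} [Group G]
    (h : Fails w (commutator G)) : Fails w G :=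
  h.of_injective (commutator G).subtype (Subgroup.subtype_injective _)

lemma card_erase_le_mul_image_pow {F : Type*} [Field F] [Fintype F] [DecidableEq F] {k : ℕ}
    (hk : 0 < k) : Fintype.card F - 1 ≤
      k * (((Finset.univ : Finset F).erase 0).image (· ^ k)).card := by
  rw [← Finset.card_univ, ← Finset.card_erase_of_mem (Finset.mem_univ (0 : F))]
  refine Finset.card_le_mul_card_image _ k fun a _ => ?_
  refine le_trans (Finset.card_le_card ?_) ((Multiset.toFinset_card_le _).trans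
    (Polynomial.card_nthRoots k a))
  intro x hx
  simp only [Finset.mem_filter] at hx
  rw [Multiset.mem_toFinset, Polynomial.mem_nthRoots hk]
  exact hx.2

/-! ### SL₂ -/

section SL2

variable {F : Type*} [Field F]

/-- The torus element `diag(t, t⁻¹)`. -/
noncomputable def slDiag (t : F) : Matrix.SpecialLinearGroup (Fin 2) F := by
  classical
  exact if h : t = 0 then 1 else ⟨!![t, 0; 0, t⁻¹], by simp [Matrix.det_fin_two, h]⟩

lemma slDiag_coe {t : F} (h : t ≠ 0) :
    (slDiag t : Matrix (Fin 2) (Fin 2) F) = !![t, 0; 0, t⁻¹] := by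
  simp [slDiag, h]

lemma slDiag_sq_mem {s : F} (hs : s ≠ 0) :
    slDiag (s ^ 2) ∈ commutator (Matrix.SpecialLinearGroup (Fin 2) F) := by
  let W : Matrix.SpecialLinearGroup (Fin 2) F := ⟨!![0, 1; -1, 0], by simp [Matrix.det_fin_two]⟩
  have h : slDiag (s ^ 2) * W * slDiag s = slDiag s * W := by
    refine Subtype.ext ?_
    show (slDiag (s ^ 2)).1 * !![0, 1; -1, 0] * (slDiag s).1 = (slDiag s).1 * !![0, 1; -1, 0]
    rw [show (slDiag s).1 = _ from slDiag_coe hs,
      show (slDiag (s ^ 2)).1 = _ from slDiag_coe (pow_ne_zero 2 hs)]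
    ext i j
    fin_cases i <;> fin_cases j <;> simp [Matrix.mul_apply, Fin.sum_univ_two] <;> field_simp
  have h2 : slDiag (s ^ 2) = ⁅slDiag s, W⁆ := by
    rw [commutatorElement_def, eq_mul_inv_iff_mul_eq, eq_mul_inv_iff_mul_eq]
    exact h
  rw [h2, commutator_def]
  exact Subgroup.commutator_mem_commutator (Subgroup.mem_top _) (Subgroup.mem_top _)

theorem fails_commutator_SL2 (w : FreeGroup ℕ) (hw : w ≠ 1) [Fintype F]
    (hF : 8 * wlen w.toWord + 4 ≤ Fintype.card F) :
    Fails w (commutator (Matrix.SpecialLinearGroup (Fin 2) F)) := by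
  classical
  obtain ⟨s, hs⟩ : ∃ s : F, s ∉ ({0, -1} : Finset F) := by
    refine (Finset.exists_mem_notMem_of_card_lt_card
      (s := ({0, -1} : Finset F)) (t := Finset.univ) ?_).imp fun _ h => h.2
    have := Finset.card_le_two (a := (0 : F)) (b := -1)
    rw [Finset.card_univ]; omega
  simp only [Finset.mem_insert, Finset.mem_singleton, not_or] at hs
  have hs1 : 1 + s ≠ 0 := fun h => hs.2 (by linear_combination h)
  let m : Matrix.SpecialLinearGroup (Fin 2) F :=
    ⟨!![1, 1; s, 1 + s], by simp [Matrix.det_fin_two]⟩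
  let ρ : Matrix.SpecialLinearGroup (Fin 2) F →* Matrix (Fin 2) (Fin 2) F :=
    { toFun := fun g => g, map_one' := rfl, map_mul' := fun _ _ => rfl }
  let T : Finset F := ((Finset.univ : Finset F).erase 0).image (· ^ 2)
  have D : Data ρ m T slDiag 1 ![2, 0] 0 1 := by
    refine ⟨one_pos, rfl, rfl, fun r hr => ?_, fun r hr => ?_, ?_, ?_, ?_⟩
    · fin_cases r <;> simp_all
    · fin_cases r <;> simp_all
    · intro r _ c _
      rw [show ρ m = !![1, 1; s, 1 + s] from rfl,
        show ρ m⁻¹ = (!![1, 1; s, 1 + s]).adjugate from rfl, Matrix.adjugate_fin_two_of]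
      fin_cases r <;> fin_cases c <;> simp [hs.1, hs1]
    · intro t ht; simp [T] at ht; obtain ⟨a, ha, rfl⟩ := ht; exact pow_ne_zero _ ha
    · intro t ht
      have ht0 : t ≠ 0 := by simp [T] at ht; obtain ⟨a, ha, rfl⟩ := ht; exact pow_ne_zero _ ha
      ext i j
      fin_cases i <;> fin_cases j <;> simp [ρ, slDiag_coe ht0, ht0, pow_two]
  have hT : Fintype.card F - 1 ≤ 2 * T.card := card_erase_le_mul_image_pow two_pos
  obtain ⟨t, ht, hne⟩ := D.exists_value_ne_one w hw (by omega)
  refine fails_subgroup _ _ (fun i => genFn_mem _ m ?_ i) hne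
  simp [T] at ht; obtain ⟨a, ha, rfl⟩ := ht; exact slDiag_sq_mem ha

theorem fails_commutator_GL2 (w : FreeGroup ℕ) (hw : w ≠ 1) [Fintype F]
    (hF : 8 * wlen w.toWord + 4 ≤ Fintype.card F) :
    Fails w (commutator (GL (Fin 2) F)) :=
  (fails_commutator_SL2 w hw hF).commutator_map Matrix.SpecialLinearGroup.toGL
    (fun _ _ h => Subtype.ext (congrArg Units.val h))

end SL2

/-! ### Permutations -/

theorem fails_commutator_perm (w : FreeGroup ℕ) (hw : w ≠ 1) :
    ∃ N, ∀ n, N ≤ n → Fails w (commutator (Equiv.Perm (Fin n))) := by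
  classical
  obtain ⟨p, hp, hpp⟩ := Nat.exists_infinite_primes (8 * wlen w.toWord + 4)
  have := Fact.mk hpp
  have h := fails_commutator_SL2 (F := ZMod p) w hw (by simpa using hp)
  set G := Matrix.SpecialLinearGroup (Fin 2) (ZMod p)
  refine ⟨Fintype.card G, fun n hn => ?_⟩
  have e : G ↪ Fin n :=
    (Fintype.equivFin G).toEmbedding.trans ⟨Fin.castLE hn, Fin.castLE_injective hn⟩
  exact h.commutator_map ((Equiv.Perm.viaEmbeddingHom e).comp (MulAction.toPermHom G G))
    ((Equiv.Perm.viaEmbeddingHom_injective e).comp MulAction.toPerm_injective)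

theorem fails_alternating (w : FreeGroup ℕ) (hw : w ≠ 1) :
    ∃ N, ∀ n, N ≤ n → Fails w (alternatingGroup (Fin n)) := by
  obtain ⟨N, hN⟩ := fails_commutator_perm w hw
  refine ⟨N, fun n hn => ?_⟩
  have hle : commutator (Equiv.Perm (Fin n)) ≤ alternatingGroup (Fin n) :=
    Abelianization.commutator_subset_ker Equiv.Perm.sign
  exact (hN n hn).of_injective (Subgroup.inclusion hle) (Subgroup.inclusion_injective hle)

/-! ### Matrix embeddings -/

section Emb

variable {F : Type*} [Field F]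

/-- Permutation matrices. -/
noncomputable def permGL (n : ℕ) : Equiv.Perm (Fin n) →* GL (Fin n) F :=
  (Matrix.permMatrixHom (n := Fin n) (R := F)).toHomUnits

lemma permGL_coe (n : ℕ) (σ : Equiv.Perm (Fin n)) :
    (permGL (F := F) n σ : Matrix (Fin n) (Fin n) F) = σ⁻¹.permMatrix F := rfl

lemma permGL_injective (n : ℕ) : Function.Injective (permGL (F := F) n) := by
  intro σ τ h
  have h2 := congrArg (fun g : GL (Fin n) F => (g : Matrix (Fin n) (Fin n) F)) h
  simp only [permGL_coe] at h2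
  refine inv_injective (Equiv.ext fun i => ?_)
  by_contra hne
  have h3 := congrFun (congrFun h2 i) (σ⁻¹ i)
  simp [Equiv.Perm.permMatrix, PEquiv.toMatrix_apply, Equiv.toPEquiv_apply] at h3
  exact hne (h3 ▸ rfl)

/-- `Fin n` split after two points. -/
def splitTwo {n : ℕ} (hn : 2 ≤ n) : Fin 2 ⊕ Fin (n - 2) ≃ Fin n :=
  finSumFinEquiv.trans (finCongr (by omega))

/-- `A ↦ A ⊕ 1`. -/
def blockHom {n : ℕ} (hn : 2 ≤ n) : Matrix (Fin 2) (Fin 2) F →* Matrix (Fin n) (Fin n) F where
  toFun A := (Matrix.fromBlocks A 0 0 1).submatrix (splitTwo hn).symm (splitTwo hn).symm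
  map_one' := by rw [Matrix.fromBlocks_one, Matrix.submatrix_one_equiv]
  map_mul' A B := by
    rw [Matrix.submatrix_mul_equiv, Matrix.fromBlocks_multiply]
    simp

lemma blockHom_injective {n : ℕ} (hn : 2 ≤ n) : Function.Injective (blockHom (F := F) hn) := by
  intro A B h
  ext i j
  have := congrFun (congrFun h (splitTwo hn (.inl i))) (splitTwo hn (.inl j))
  simpa [blockHom] using this

lemma units_map_injective {M N : Type*} [Monoid M] [Monoid N] (φ : M →* N)
    (h : Function.Injective φ) : Function.Injective (Units.map φ) :=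
  fun _ _ hab => Units.ext (h (congrArg Units.val hab))

/-- The two uniform sources: big permutation groups, big fields. -/
theorem fails_commutator_GL (w : FreeGroup ℕ) (hw : w ≠ 1) :
    ∃ N, ∀ (F : Type u) [Field F] [Fintype F] (n : ℕ), 2 ≤ n → (N ≤ n ∨ N ≤ Fintype.card F) →
      Fails w (commutator (GL (Fin n) F)) := by
  obtain ⟨N, hN⟩ := fails_commutator_perm w hw
  refine ⟨N + (8 * wlen w.toWord + 4), fun F _ _ n hn h => ?_⟩
  rcases h with h | h
  · exact (hN n (by omega)).commutator_map (permGL n) (permGL_injective n)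
  · exact (fails_commutator_GL2 w hw (by omega)).commutator_map (Units.map (blockHom hn))
      (units_map_injective _ (blockHom_injective hn))

lemma det_eq_one_of_mem_commutator {ι : Type*} [Fintype ι] [DecidableEq ι] {g : GL ι F}
    (hg : g ∈ commutator (GL ι F)) : (g : Matrix ι ι F).det = 1 := by
  have := Abelianization.commutator_subset_ker Matrix.GeneralLinearGroup.det hg
  simpa using congrArg Units.val (MonoidHom.mem_ker.1 this)

/-- `commutator GL → SL`. -/
def commToSL (n : ℕ) :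
    commutator (GL (Fin n) F) →* Matrix.SpecialLinearGroup (Fin n) F where
  toFun g := ⟨((g : GL (Fin n) F) : Matrix (Fin n) (Fin n) F), det_eq_one_of_mem_commutator g.2⟩
  map_one' := rfl
  map_mul' _ _ := rfl

lemma commToSL_injective (n : ℕ) : Function.Injective (commToSL (F := F) n) :=
  fun _ _ h => Subtype.ext (Units.ext (congrArg Subtype.val h))

/-- `A ↦ diag(A, A⁻ᵀ)`. -/
noncomputable def dbl (m : ℕ) : GL (Fin m) F →* GL (Fin m ⊕ Fin m) F :=
  MonoidHom.toHomUnits
    { toFun := fun g => Matrix.fromBlocks (g : Matrix (Fin m) (Fin m) F) 0 0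
        ((g⁻¹ : GL (Fin m) F) : Matrix (Fin m) (Fin m) F)ᵀ
      map_one' := by simp
      map_mul' := fun g h => by
        rw [Matrix.fromBlocks_multiply, _root_.mul_inv_rev]
        simp }

lemma dbl_coe (m : ℕ) (g : GL (Fin m) F) :
    (dbl m g : Matrix (Fin m ⊕ Fin m) (Fin m ⊕ Fin m) F) =
      Matrix.fromBlocks (g : Matrix (Fin m) (Fin m) F) 0 0
        ((g⁻¹ : GL (Fin m) F) : Matrix (Fin m) (Fin m) F)ᵀ := rfl

lemma dbl_injective (m : ℕ) : Function.Injective (dbl (F := F) m) := by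
  intro g h hgh
  have := congrArg Units.val hgh
  rw [dbl_coe, dbl_coe, Matrix.fromBlocks_inj] at this
  exact Units.ext this.1

/-- `GL_m → Sp_2m`. -/
noncomputable def glToSp (m : ℕ) : GL (Fin m) F →* Matrix.symplecticGroup (Fin m) F where
  toFun g := ⟨dbl m g, by
    rw [SymplecticGroup.mem_iff, dbl_coe, Matrix.J, Matrix.fromBlocks_transpose,
      Matrix.fromBlocks_multiply, Matrix.fromBlocks_multiply]
    simp only [Matrix.transpose_zero, Matrix.transpose_transpose, Matrix.mul_zero, Matrix.zero_mul,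
      add_zero, zero_add, Matrix.mul_neg, Matrix.neg_mul, Matrix.mul_one, Units.mul_inv,
      neg_zero]
    congr 1
    rw [← Matrix.transpose_mul, Units.mul_inv, Matrix.transpose_one]⟩
  map_one' := by ext1; simp
  map_mul' g h := by ext1; simp [map_mul]

lemma glToSp_injective (m : ℕ) : Function.Injective (glToSp (F := F) m) := fun _ _ h =>
  dbl_injective m (Units.ext (congrArg Subtype.val h))

lemma quadFormPlus_dbl (m : ℕ) (g : GL (Fin m) F) (v : Fin m ⊕ Fin m → F) :
    Cfsg.quadFormPlus m F ((dbl m g).val *ᵥ v) = Cfsg.quadFormPlus m F v := by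
  show ((dbl m g).val *ᵥ v) ∘ Sum.inl ⬝ᵥ ((dbl m g).val *ᵥ v) ∘ Sum.inr
    = v ∘ Sum.inl ⬝ᵥ v ∘ Sum.inr
  rw [dbl_coe, Matrix.fromBlocks_mulVec]
  simp only [Sum.elim_comp_inl, Sum.elim_comp_inr, Matrix.zero_mulVec, add_zero, zero_add]
  rw [Matrix.dotProduct_mulVec, Matrix.vecMul_transpose, Matrix.mulVec_mulVec, Units.inv_mul,
    Matrix.one_mulVec]

/-- `GL_m → O⁺_2m`. -/
noncomputable def glToPlus (m : ℕ) :
    GL (Fin m) F →* Cfsg.isometryGroup F (Cfsg.quadFormPlus m F) :=
  (dbl m).codRestrict _ fun g v _ => quadFormPlus_dbl m g v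

lemma glToPlus_injective (m : ℕ) : Function.Injective (glToPlus (F := F) m) := fun _ _ h =>
  dbl_injective m (congrArg Subtype.val h)

/-- `A ↦ 1 ⊕ diag(A, A⁻ᵀ)`. -/
noncomputable def dblOdd (m : ℕ) : GL (Fin m) F →* GL (Unit ⊕ (Fin m ⊕ Fin m)) F :=
  (Units.map
    { toFun := fun A => Matrix.fromBlocks (1 : Matrix Unit Unit F) 0 0 A
      map_one' := by simp
      map_mul' := fun A B => by simp [Matrix.fromBlocks_multiply] }).comp (dbl m)

/-- `A ↦ diag(A, A⁻ᵀ) ⊕ 1`. -/
noncomputable def dblMinus (m : ℕ) : GL (Fin m) F →* GL ((Fin m ⊕ Fin m) ⊕ Fin 2) F :=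
  (Units.map
    { toFun := fun A => Matrix.fromBlocks A 0 0 (1 : Matrix (Fin 2) (Fin 2) F)
      map_one' := by simp
      map_mul' := fun A B => by simp [Matrix.fromBlocks_multiply] }).comp (dbl m)

lemma quadFormOdd_dbl (m : ℕ) (g : GL (Fin m) F) (v : Unit ⊕ (Fin m ⊕ Fin m) → F) :
    Cfsg.quadFormOdd m F ((dblOdd m g).val *ᵥ v) = Cfsg.quadFormOdd m F v := by
  show ((dblOdd m g).val *ᵥ v) (.inl ()) ^ 2 +
      Cfsg.quadFormPlus m F (((dblOdd m g).val *ᵥ v) ∘ Sum.inr) =
    v (.inl ()) ^ 2 + Cfsg.quadFormPlus m F (v ∘ Sum.inr)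
  have h : (dblOdd m g).val *ᵥ v =
      Sum.elim (v ∘ Sum.inl) ((dbl m g).val *ᵥ (v ∘ Sum.inr)) := by
    simp [dblOdd, Matrix.fromBlocks_mulVec]
  rw [h, Sum.elim_comp_inr, quadFormPlus_dbl]
  rfl

lemma quadFormMinus_dbl (m : ℕ) (a b : F) (g : GL (Fin m) F)
    (v : (Fin m ⊕ Fin m) ⊕ Fin 2 → F) :
    Cfsg.quadFormMinus m F a b ((dblMinus m g).val *ᵥ v) =
      Cfsg.quadFormMinus m F a b v := by
  have h : (dblMinus m g).val *ᵥ v =
      Sum.elim ((dbl m g).val *ᵥ (v ∘ Sum.inl)) (v ∘ Sum.inr) := by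
    simp [dblMinus, Matrix.fromBlocks_mulVec]
  have h2 := quadFormPlus_dbl m g (v ∘ Sum.inl)
  simp only [Cfsg.quadFormPlus] at h2
  rw [h]
  simp only [Cfsg.quadFormMinus, Sum.elim_inl, Sum.elim_inr, Function.comp_apply]
  rw [h2]
  rfl

lemma fromBlocks_units_injective {m : ℕ} {g h : GL (Fin m) F}
    (hgh : dblOdd m g = dblOdd m h) : g = h := by
  have := congrArg Units.val hgh
  simp only [dblOdd, MonoidHom.comp_apply, Units.coe_map, MonoidHom.coe_mk, OneHom.coe_mk,
    Matrix.fromBlocks_inj] at this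
  exact dbl_injective m (Units.ext this.2.2.2)

/-- `GL_m → O_2m+1`. -/
noncomputable def glToOdd (m : ℕ) :
    GL (Fin m) F →* Cfsg.isometryGroup F (Cfsg.quadFormOdd m F) :=
  (dblOdd m).codRestrict _ fun g v _ => quadFormOdd_dbl m g v

lemma glToOdd_injective (m : ℕ) : Function.Injective (glToOdd (F := F) m) := fun _ _ h =>
  fromBlocks_units_injective (congrArg Subtype.val h)

/-- `GL_m → O⁻_2m+2`. -/
noncomputable def glToMinus (m : ℕ) (a b : F) :
    GL (Fin m) F →* Cfsg.isometryGroup F (Cfsg.quadFormMinus m F a b) :=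
  (dblMinus m).codRestrict _ fun g v _ => quadFormMinus_dbl m a b g v

lemma glToMinus_injective (m : ℕ) (a b : F) : Function.Injective (glToMinus m a b) := by
  intro g h hgh
  have := congrArg (fun x => Units.val (Subtype.val x)) hgh
  simp only [glToMinus, MonoidHom.codRestrict_apply, dblMinus, MonoidHom.comp_apply,
    Units.coe_map, MonoidHom.coe_mk, OneHom.coe_mk, Matrix.fromBlocks_inj] at this
  exact dbl_injective m (Units.ext this.1)

end Emb

/-! ### Unitary groups -/

section Unitary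

variable {F : Type*} [Field F]

/-- `GU_n`. -/
def GU (n : ℕ) (q : ℕ) : Subgroup (GL (Fin n) F) :=
  Cfsg.preserving (Units.coeHom _) (Cfsg.hermForm n F q)

lemma hermForm_perm (n q : ℕ) (σ : Equiv.Perm (Fin n)) (u v : Fin n → F) :
    Cfsg.hermForm n F q ((permGL n σ).val *ᵥ u) ((permGL n σ).val *ᵥ v) =
      Cfsg.hermForm n F q u v := by
  simp only [permGL_coe, Matrix.permMatrix_mulVec, Cfsg.hermForm, Function.comp_apply]
  exact Equiv.sum_comp σ⁻¹ (fun i => u i * v i ^ q)

theorem fails_SU_perm (w : FreeGroup ℕ) (n q : ℕ)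
    (h : Fails w (commutator (Equiv.Perm (Fin n)))) : Fails w (Cfsg.SU n F q) := by
  have h2 : Fails w (commutator (GU (F := F) n q)) :=
    h.commutator_map ((permGL n).codRestrict _ fun σ => hermForm_perm n q σ)
      (fun a b hab => permGL_injective n (congrArg Subtype.val hab))
  let ψ : commutator (GU (F := F) n q) →* Matrix.SpecialLinearGroup (Fin n) F :=
    { toFun := fun g => ⟨((g : GU (F := F) n q) : GL (Fin n) F), det_eq_one_of_mem_commutator
        (by
          have : (g : GU (F := F) n q) ∈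
              (commutator (GL (Fin n) F)).comap (GU (F := F) n q).subtype := by
            refine (Subgroup.map_le_iff_le_comap.1 ?_) g.2
            rw [commutator_def, Subgroup.map_commutator, commutator_def]
            exact Subgroup.commutator_mono le_top le_top
          exact this)⟩
      map_one' := rfl
      map_mul' := fun _ _ => rfl }
  refine h2.of_injective (ψ.codRestrict (Cfsg.SU n F q) fun g => (g : GU (F := F) n q).2) ?_
  intro a b hab
  exact Subtype.ext (Subtype.ext (Units.ext (congrArg (fun x => Subtype.val (Subtype.val x)) hab)))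

/-- `SL₂ → SL_n`. -/
def slBlock {n : ℕ} (hn : 2 ≤ n) :
    Matrix.SpecialLinearGroup (Fin 2) F →* Matrix.SpecialLinearGroup (Fin n) F where
  toFun g := ⟨blockHom hn g, by
    simp [blockHom, Matrix.det_submatrix_equiv_self]⟩
  map_one' := by ext1; simp
  map_mul' g h := Subtype.ext (map_mul (blockHom hn) _ _)

theorem fails_SU_of_SU2 (w : FreeGroup ℕ) {n q : ℕ} (hn : 2 ≤ n)
    (h : Fails w (Cfsg.SU 2 F q)) : Fails w (Cfsg.SU n F q) := by
  refine h.of_injective (((slBlock hn).comp (Cfsg.SU 2 F q).subtype).codRestrict _ ?_) ?_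
  · intro g u v
    show Cfsg.hermForm n F q (blockHom hn ((g : Matrix.SpecialLinearGroup (Fin 2) F) :
      Matrix (Fin 2) (Fin 2) F) *ᵥ u) (blockHom hn ((g : Matrix.SpecialLinearGroup (Fin 2) F) :
      Matrix (Fin 2) (Fin 2) F) *ᵥ v) = _
    have key : ∀ x y : Fin n → F, Cfsg.hermForm n F q x y =
        Cfsg.hermForm 2 F q ((x ∘ splitTwo hn) ∘ Sum.inl) ((y ∘ splitTwo hn) ∘ Sum.inl) +
          ∑ i : Fin (n - 2), x (splitTwo hn (.inr i)) * y (splitTwo hn (.inr i)) ^ q := by
      intro x y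
      simp only [Cfsg.hermForm]
      rw [← Equiv.sum_comp (splitTwo hn), Fintype.sum_sum_type]
      rfl
    have hh : ∀ x : Fin n → F,
        (blockHom hn ((g : Matrix.SpecialLinearGroup (Fin 2) F) : Matrix (Fin 2) (Fin 2) F) *ᵥ x) ∘
          splitTwo hn = Sum.elim (((g : Matrix.SpecialLinearGroup (Fin 2) F) :
            Matrix (Fin 2) (Fin 2) F) *ᵥ ((x ∘ splitTwo hn) ∘ Sum.inl))
          ((x ∘ splitTwo hn) ∘ Sum.inr) := by
      intro x
      simp only [blockHom, MonoidHom.coe_mk, OneHom.coe_mk, Matrix.submatrix_mulVec_equiv,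
        Equiv.symm_symm, Matrix.fromBlocks_mulVec]
      funext i
      simp
    have hg := g.2 ((u ∘ splitTwo hn) ∘ Sum.inl) ((v ∘ splitTwo hn) ∘ Sum.inl)
    rw [key, key u v, hh u, hh v, Sum.elim_comp_inl, Sum.elim_comp_inl]
    refine congrArg₂ (· + ·) hg (Finset.sum_congr rfl fun i _ => ?_)
    have h1 := congrFun (hh u) (.inr i)
    have h2 := congrFun (hh v) (.inr i)
    simp only [Function.comp_apply, Sum.elim_inr] at h1 h2
    rw [h1, h2]
  · intro a b hab
    refine Subtype.ext (Subtype.ext (blockHom_injective hn ?_))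
    exact congrArg (fun x => Subtype.val (Subtype.val x)) hab

theorem fails_SU2 (w : FreeGroup ℕ) (hw : w ≠ 1) [Fintype F] {q : ℕ}
    (hq : Fintype.card F = q ^ 2) (hbig : 4 * wlen w.toWord + 3 ≤ q) :
    Fails w (Cfsg.SU 2 F q) := by
  classical
  obtain ⟨p, n, hpp, -, hcard⟩ : ∃ p n, p.Prime ∧ CharP F p ∧ Fintype.card F = p ^ n := by
    obtain ⟨n, hp, hn⟩ := FiniteField.card F (ringChar F)
    exact ⟨ringChar F, n, hp, inferInstance, hn⟩
  have : CharP F p := by
    obtain ⟨n', hp', hn'⟩ := FiniteField.card F (ringChar F)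
    have : ringChar F = p := by
      have h1 : (ringChar F) ∣ p ^ n := by
        rw [← hcard, hn']; exact dvd_pow_self _ (PNat.ne_zero n')
      exact (Nat.prime_dvd_prime_iff_eq hp' hpp).1 (hp'.dvd_of_dvd_pow h1)
    exact this ▸ inferInstance
  have := Fact.mk hpp
  obtain ⟨k, -, hk⟩ := (Nat.dvd_prime_pow hpp).1
    (show q ∣ p ^ n by rw [← hcard, hq]; exact dvd_pow_self q two_ne_zero)
  have hsub : ∀ x y : F, (x - y) ^ q = x ^ q - y ^ q := fun x y => by
    rw [hk]; exact sub_pow_char_pow x y k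
  have hadd : ∀ x y : F, (x + y) ^ q = x ^ q + y ^ q := fun x y => by
    rw [hk]; exact add_pow_char_pow x y p k
  have hqq : ∀ x : F, (x ^ q) ^ q = x := fun x => by
    rw [← pow_mul, ← pow_two, ← hq, FiniteField.pow_card]
  have hunit : ∀ x : F, x ≠ 0 → x ^ (q ^ 2 - 1) = 1 := fun x hx => by
    rw [← hq]; exact FiniteField.pow_card_sub_one_eq_one x hx
  have hsq : q ^ 2 - 1 = (q + 1) * (q - 1) := by
    have := Nat.sq_sub_sq q 1; simpa using this
  -- image of the norm
  let E : Finset F := Finset.univ.erase 0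
  let R : Finset F := (Polynomial.nthRoots (q - 1) (1 : F)).toFinset
  have hmemR : ∀ x, x ∈ R ↔ x ^ (q - 1) = 1 := fun x => by
    simp [R, Polynomial.mem_nthRoots (show 0 < q - 1 by omega)]
  have hNR : E.image (· ^ (q + 1)) ⊆ R := by
    intro x hx
    obtain ⟨a, ha, rfl⟩ := Finset.mem_image.1 hx
    rw [hmemR, ← pow_mul, ← hsq]; exact hunit a (Finset.ne_of_mem_erase ha)
  have hNcard : q - 1 ≤ (E.image (· ^ (q + 1))).card := by
    have h1 := card_erase_le_mul_image_pow (F := F) (k := q + 1) (by omega)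
    rw [hq, hsq] at h1
    exact Nat.le_of_mul_le_mul_left h1 (by omega)
  have hRcard : R.card ≤ q - 1 :=
    (Multiset.toFinset_card_le _).trans (Polynomial.card_nthRoots _ _)
  have hNeq : E.image (· ^ (q + 1)) = R := Finset.eq_of_subset_of_card_le hNR (hRcard.trans hNcard)
  have hnorm : ∀ c : F, c ^ (q - 1) = 1 → ∃ a, a ≠ 0 ∧ a ^ (q + 1) = c := fun c hc => by
    rw [← hmemR, ← hNeq, Finset.mem_image] at hc
    obtain ⟨a, ha, h⟩ := hc
    exact ⟨a, Finset.ne_of_mem_erase ha, h⟩
  obtain ⟨c, hc, hc1⟩ : ∃ c ∈ R, c ≠ 1 :=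
    Finset.exists_mem_ne (by rw [← hNeq]; omega) 1
  rw [hmemR] at hc
  have hc' : (1 - c) ^ (q - 1) = 1 := by
    have hne : (1 : F) - c ≠ 0 := sub_ne_zero.2 hc1.symm
    have h1 : c ^ q = c := by
      conv_lhs => rw [show q = q - 1 + 1 by omega, pow_succ, hc, one_mul]
    refine mul_right_cancel₀ hne ?_
    rw [← pow_succ, show q - 1 + 1 = q by omega, hsub, one_pow, h1, one_mul]
  obtain ⟨a, ha, haN⟩ := hnorm c hc
  obtain ⟨b, hb, hbN⟩ := hnorm (1 - c) hc'
  have hab : a ^ q * a + b ^ q * b = 1 := by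
    rw [← pow_succ, ← pow_succ, haN, hbN]; ring
  let m' : Matrix.SpecialLinearGroup (Fin 2) F :=
    ⟨!![a, b; -(b ^ q), a ^ q], by
      rw [Matrix.det_fin_two_of]; linear_combination hab⟩
  have hm : m' ∈ Cfsg.SU 2 F q := by
    intro u v
    show Cfsg.hermForm 2 F q (!![a, b; -(b ^ q), a ^ q] *ᵥ u) (!![a, b; -(b ^ q), a ^ q] *ᵥ v) = _
    simp only [Cfsg.hermForm, Fin.sum_univ_two, Matrix.mulVec, dotProduct]
    simp only [Matrix.cons_val', Matrix.cons_val_zero, Matrix.cons_val_one, Matrix.empty_val',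
      Matrix.cons_val_fin_one, Matrix.of_apply]
    rw [neg_mul, neg_mul, neg_add_eq_sub, neg_add_eq_sub, hsub, hadd, mul_pow, mul_pow, mul_pow,
      mul_pow, hqq, hqq]
    linear_combination (u 0 * v 0 ^ q + u 1 * v 1 ^ q) * hab
  let ρ : Cfsg.SU 2 F q →* Matrix (Fin 2) (Fin 2) F :=
    (Cfsg.slToMat 2 F).comp (Cfsg.SU 2 F q).subtype
  have hdmem : ∀ t : F, t ^ (q + 1) = 1 → slDiag t ∈ Cfsg.SU 2 F q := by
    intro t ht
    have ht0 : t ≠ 0 := fun h => by simp [h] at ht
    intro u v
    show Cfsg.hermForm 2 F q ((slDiag t).1 *ᵥ u) ((slDiag t).1 *ᵥ v) = _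
    rw [show (slDiag t).1 = _ from slDiag_coe ht0]
    simp only [Cfsg.hermForm, Fin.sum_univ_two, Matrix.mulVec, dotProduct]
    simp only [Matrix.cons_val', Matrix.cons_val_zero, Matrix.cons_val_one, Matrix.empty_val',
      Matrix.cons_val_fin_one, Matrix.of_apply, zero_mul, add_zero, zero_add, mul_pow]
    have hti : t⁻¹ * t⁻¹ ^ q = 1 := by
      rw [← pow_succ', inv_pow, ht, inv_one]
    rw [pow_succ'] at ht
    linear_combination (u 0 * v 0 ^ q) * ht + (u 1 * v 1 ^ q) * hti
  let d : F → Cfsg.SU 2 F q := fun t =>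
    if h : t ^ (q + 1) = 1 then ⟨slDiag t, hdmem t h⟩ else 1
  let T : Finset F := E.image (· ^ (q - 1))
  have hT : ∀ t ∈ T, t ≠ 0 ∧ t ^ (q + 1) = 1 := by
    intro t ht
    obtain ⟨x, hx, rfl⟩ := Finset.mem_image.1 ht
    refine ⟨pow_ne_zero _ (Finset.ne_of_mem_erase hx), ?_⟩
    rw [← pow_mul, Nat.mul_comm, ← hsq]; exact hunit x (Finset.ne_of_mem_erase hx)
  have D : Data ρ ⟨m', hm⟩ T d 1 ![2, 0] 0 1 := by
    refine ⟨one_pos, rfl, rfl, fun r hr => ?_, fun r hr => ?_, ?_, fun t ht => (hT t ht).1, ?_⟩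
    · fin_cases r <;> simp_all
    · fin_cases r <;> simp_all
    · intro r _ c _
      have hinv : ρ (⟨m', hm⟩ : Cfsg.SU 2 F q)⁻¹ =
          (!![a, b; -(b ^ q), a ^ q]).adjugate := rfl
      rw [hinv, show ρ (⟨m', hm⟩ : Cfsg.SU 2 F q) = !![a, b; -(b ^ q), a ^ q] from rfl,
        Matrix.adjugate_fin_two_of]
      fin_cases r <;> fin_cases c <;> simp [ha, hb]
    · intro t ht
      have h1 : ρ (d t) = !![t, 0; 0, t⁻¹] := by
        simp only [d, dif_pos (hT t ht).2]
        exact slDiag_coe (hT t ht).1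
      ext i j
      fin_cases i <;> fin_cases j <;> simp [h1, (hT t ht).1, pow_two]
  have hTcard : q + 1 ≤ T.card := by
    have h1 := card_erase_le_mul_image_pow (F := F) (k := q - 1) (by omega)
    rw [hq, hsq, Nat.mul_comm] at h1
    exact Nat.le_of_mul_le_mul_left h1 (by omega)
  obtain ⟨t, -, hne⟩ := D.exists_value_ne_one w hw (by omega)
  exact ⟨_, hne⟩

end Unitary

/-! ### Bounded rank and bounded field: bounded order -/

lemma card_le_of_embed {ι : Type*} [Fintype ι] {F : Type*} [Fintype F] {S : Type*}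
    (f : S → Matrix ι ι F) (hf : Function.Injective f) {D B : ℕ} (hι : Fintype.card ι ≤ D)
    (hF : Fintype.card F ≤ B) (hB : 1 ≤ B) : Nat.card S ≤ B ^ (D * D) := by
  classical
  calc Nat.card S ≤ Nat.card (Matrix ι ι F) := Nat.card_le_card_of_injective f hf
    _ = Fintype.card F ^ (Fintype.card ι * Fintype.card ι) := by
      simp [Matrix, Nat.card_eq_fintype_card, pow_mul]
    _ ≤ B ^ (Fintype.card ι * Fintype.card ι) := Nat.pow_le_pow_left hF _
    _ ≤ B ^ (D * D) := Nat.pow_le_pow_right hB (Nat.mul_le_mul hι hι)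

lemma card_quot_le {S : Type*} [Group S] [Finite S] (N : Subgroup S) :
    Nat.card (S ⧸ N) ≤ Nat.card S :=
  Nat.card_le_card_of_surjective _ QuotientGroup.mk_surjective

end CfsgLib.Laws
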